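import Cfsg.Agent.H417.JOneDeg
import Cfsg.Agent.H894.DefZero
import Cfsg.Agent.H684.EB.EvenS
import Cfsg.Agent.J3Type.CharTools
import Cfsg.Agent.CharactersDeep.ModCongr

/-!
# S4515, [R1]: the principal 2-block of the first Janko group (helper808)

`odd_of_isoJ1`: every member of the principal 2-block of `J₁` has odd degree.

The degrees are `1, 56, 76, 77, 120, 132, 133, 209`. `56, 120` have 2-defect zero. For `132` and `76` the central
characters at the involutions `t` and at an element `y` of order 6 (`|C(y)| ∣ 6`) are used: `132`: `12 ∣ χ t`, so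
`χ t = 0`, contradiction; `76`: `χ t = ±4`, `χ y ≡ χ t` modulo 3 is even, so `χ y = ±2`, and by `∑ χ(y)² ≤ 6` at most
one further character `ψ` does not vanish at `y`; orthogonality gives `ψ 1 = 151, 153`.
-/

set_option autoImplicit false
set_option linter.unusedSectionVars false

namespace Cfsg.Agent.H808.EB515

open Cfsg Subgroup
open Cfsg.Agent.Characters.Core
open Cfsg.Agent.M23Order.Base
open Cfsg.Agent.H413.JOneSpec Cfsg.Agent.H417.JOneDeg Cfsg.Agent.H417
open Cfsg.Agent.SporRec.J1.Defs
open scoped ComplexConjugate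

universe u

variable {K : Type u} [Group K]

/-- the degrees -/
theorem mem_degrees [Finite K] [IsSimpleGroup K] (h : Local K) (hc : Nat.card K = 175560) (χ : IrrCharacter K) :
    dg χ ∈ ({1, 56, 76, 77, 120, 132, 133, 209} : Finset ℕ) := by
  classical
  have := finite_irr (G := K)
  let _ := Fintype.ofFinite (IrrCharacter K)
  have f7 : Fact (Nat.Prime 7) := ⟨by norm_num⟩
  have f11 : Fact (Nat.Prime 11) := ⟨by norm_num⟩
  have f19 : Fact (Nat.Prime 19) := ⟨by norm_num⟩
  obtain ⟨P, hP, ⟨D⟩⟩ := BlockCount.exists_SC (G := K) 7 (by norm_num) (by rw [hc]; norm_num)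
    (by rw [hc]; norm_num) (fun y hy => by rw [card_cent h hc (by rw [hy]; unfold Big; tauto), hy]) (e := 6) (t := 1)
    (by rw [hc]) (by norm_num)
  obtain ⟨Q, hQ, ⟨E⟩⟩ := BlockCount.exists_SC (G := K) 11 (by norm_num) (by rw [hc]; norm_num)
    (by rw [hc]; norm_num) (fun y hy => by rw [card_cent h hc (by rw [hy]; unfold Big; tauto), hy]) (e := 10) (t := 1)
    (by rw [hc]) (by norm_num)
  obtain ⟨R, hR, ⟨F⟩⟩ := BlockCount.exists_SC (G := K) 19 (by norm_num) (by rw [hc]; norm_num)
    (by rw [hc]; norm_num) (fun y hy => by rw [card_cent h hc (by rw [hy]; unfold Big; tauto), hy]) (e := 6) (t := 3)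
    (by rw [hc]) (by norm_num)
  have h1 := Divs.all_divs _ primes_ok (N := 175560) rfl deg_list (d := dg χ) (by rw [← hc]; exact dg_dvd χ)
  have h2 := BlockCount.mod_cases D (by norm_num) (by norm_num) (by norm_num) χ
  have h3 := BlockCount.mod_cases E (by norm_num) (by norm_num) (by norm_num) χ
  have h4 := BlockCount.mod_cases F (by norm_num) (by norm_num) (by norm_num) χ
  have h5 := ne_210 h hc χ
  have h6 : dg χ ^ 2 ≤ 175560 := by
    have h7 := sum_dg_sq_le {χ}
    rw [Finset.sum_singleton, hc] at h7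
    exact h7
  simp only [Finset.mem_insert, Finset.mem_singleton]
  simp only [Bool.or_eq_true, decide_eq_true_eq, Bool.not_eq_true', beq_iff_eq, Bool.or_eq_false_iff,
    beq_eq_false_iff_ne] at h1
  omega

theorem two_dvd_of_mem {M : Ideal AlgInt} (hM : IsPModular 2 M) {n : ℤ} (h : MemLocalIdeal M (n : ℂ)) :
    (2 : ℤ) ∣ n := by
  have hprime := Blocks.Local.isPrime_of_isPModular hM
  have h1 : MemLocalIdeal M ((n.natAbs : ℕ) : ℂ) := by
    have h0 : ((n.natAbs : ℕ) : ℂ) = (n : ℂ) ∨ ((n.natAbs : ℕ) : ℂ) = -(n : ℂ) := by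
      rcases Int.natAbs_eq n with h2 | h2
      · left
        have h4 : ((n.natAbs : ℤ) : ℂ) = (n : ℂ) := by rw [← h2]
        rwa [Int.cast_natCast] at h4
      · right
        have h4 : ((n.natAbs : ℤ) : ℂ) = ((-n : ℤ) : ℂ) := by rw [show -n = (n.natAbs : ℤ) by omega]
        rwa [Int.cast_natCast, Int.cast_neg] at h4
    rcases h0 with h0 | h0 <;> rw [h0]
    · exact h
    · exact Blocks.Local.memLocalIdeal_neg h
  have h3 : (((n.natAbs : ℕ) : AlgInt) : ℂ) = ((n.natAbs : ℕ) : ℂ) := by simp
  rw [← h3, CharactersDeep.ModCongr.memLocalIdeal_coe_iff hprime,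
    CharactersDeep.ModCongr.natCast_mem_iff hM] at h1
  exact Int.natCast_dvd.2 h1

/-- central characters in the principal 2-block -/
theorem two_dvd_sub {M : Ideal AlgInt} (hM : IsPModular 2 M) {χ : IrrCharacter K}
    (hχ : χ ∈ principalBlock M K) {g : K} {z w : ℤ} (hz : (χ : K → ℂ) g = z)
    (hw : ((centralizer ({g} : Set K)).index : ℤ) * z = dg χ * w) :
    (2 : ℤ) ∣ ((centralizer ({g} : Set K)).index : ℤ) - w := by
  apply two_dvd_of_mem hM
  have h1 := hχ g
  have h2 : centralChar (fun _ : K => (1 : ℂ)) g = ((centralizer ({g} : Set K)).index : ℂ) := by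
    unfold centralChar
    rw [mul_one, div_one]
  have hne : (dg χ : ℂ) ≠ 0 := by exact_mod_cast dg_ne_zero χ
  have h3 : centralChar (χ : K → ℂ) g = (w : ℂ) := by
    unfold centralChar
    rw [hz, dg_eq χ, div_eq_iff hne]
    have : ((((centralizer ({g} : Set K)).index : ℤ) * z : ℤ) : ℂ) = ((dg χ * w : ℤ) : ℂ) := by rw [hw]
    push_cast at this
    rw [this]
    ring
  rw [h2, h3] at h1
  push_cast
  exact h1

theorem real_A5 : ∀ c : alternatingGroup (Fin 5), ∃ s : alternatingGroup (Fin 5), s * c * s⁻¹ = c⁻¹ := by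
  decide +kernel

section six

variable [Finite K]

theorem orderOf_cube {y : K} (hy : orderOf y = 6) : orderOf (y ^ 3) = 2 := by
  rw [orderOf_pow_of_dvd (by norm_num) (by rw [hy]; norm_num), hy]

theorem orderOf_sq {y : K} (hy : orderOf y = 6) : orderOf (y ^ 2) = 3 := by
  rw [orderOf_pow_of_dvd (by norm_num) (by rw [hy]; norm_num), hy]

/-- the centralizer of an element of order 6 -/
theorem card_cent_six (h : Local K) {y : K} (hy : orderOf y = 6) :
    Nat.card (centralizer ({y} : Set K)) ∣ 6 := by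
  have hle : ∀ k : ℕ, centralizer ({y} : Set K) ≤ centralizer ({y ^ k} : Set K) := by
    intro k x hx
    rw [mem_centralizer_singleton_iff] at hx ⊢
    exact ((show Commute x y from hx).pow_right k)
  have h1 : Nat.card (centralizer ({y} : Set K)) ∣ 30 := by
    rw [← h.cent3 _ (orderOf_sq hy)]
    exact Subgroup.card_dvd_of_le (hle 2)
  have h2 : ¬ 5 ∣ Nat.card (centralizer ({y} : Set K)) := by
    intro h5
    have f5 : Fact (Nat.Prime 5) := ⟨by norm_num⟩
    obtain ⟨⟨w, hw⟩, ho⟩ := exists_prime_orderOf_dvd_card' 5 h5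
    rw [Subgroup.orderOf_mk] at ho
    rw [mem_centralizer_singleton_iff] at hw
    have hcm : Commute y w := (show Commute w y from hw).symm
    have h3 : orderOf (y * w) = 30 := by
      rw [hcm.orderOf_mul_eq_mul_orderOf_of_coprime (by rw [hy, ho]; norm_num), hy, ho]
    rcases even_case h (g := y * w) (by rw [h3]; norm_num) with h4 | h4 <;> rw [h3] at h4 <;> norm_num at h4
  have h3 : Nat.Coprime (Nat.card (centralizer ({y} : Set K))) 5 :=
    ((Nat.Prime.coprime_iff_not_dvd (by norm_num)).2 h2).symm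
  exact h3.dvd_of_dvd_mul_right (show _ ∣ 6 * 5 from h1)

theorem isConj_inv_six (h : Local K) {y : K} (hy : orderOf y = 6) : IsConj y y⁻¹ := by
  obtain ⟨e⟩ := h.cent _ (orderOf_cube hy)
  have hm : y ∈ centralizer ({y ^ 3} : Set K) := by
    rw [mem_centralizer_singleton_iff]
    exact ((Commute.refl y).pow_right 3)
  obtain ⟨s, hs⟩ := real_A5 (e ⟨y, hm⟩).2
  have h1 : (((1, s) : Multiplicative (ZMod 2) × alternatingGroup (Fin 5))) * e ⟨y, hm⟩ *
      (((1, s) : Multiplicative (ZMod 2) × alternatingGroup (Fin 5)))⁻¹ = (e ⟨y, hm⟩)⁻¹ := by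
    refine Prod.ext ?_ hs
    have h2 : ∀ a : Multiplicative (ZMod 2), 1 * a * 1⁻¹ = a⁻¹ := by decide
    exact h2 _
  rw [isConj_iff]
  refine ⟨(e.symm (1, s) : centralizer ({y ^ 3} : Set K)), ?_⟩
  have h2 := congrArg (fun x => ((e.symm x : centralizer ({y ^ 3} : Set K)) : K)) h1
  simp only [map_mul, map_inv, MulEquiv.symm_apply_apply] at h2
  exact h2

theorem exists_int_six (h : Local K) {y : K} (hy : orderOf y = 6) (χ : IrrCharacter K) :
    ∃ k : ℤ, (χ : K → ℂ) y = k := by
  refine J3Type.CharTools.int_of_conj (isIrr_isCharacter χ.2) y fun m hm => ?_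
  rw [hy] at hm
  have h1 : y ^ m = y ^ (m % 6) := by rw [← hy, pow_mod_orderOf]
  have h2 : m % 6 = 1 ∨ m % 6 = 5 := by
    have h3 : ¬ 2 ∣ m := fun h4 => by
      have := Nat.dvd_gcd h4 (show 2 ∣ 6 by norm_num)
      rw [Nat.Coprime.gcd_eq_one hm] at this
      norm_num at this
    have h4 : ¬ 3 ∣ m := fun h4 => by
      have := Nat.dvd_gcd h4 (show 3 ∣ 6 by norm_num)
      rw [Nat.Coprime.gcd_eq_one hm] at this
      norm_num at this
    omega
  rw [h1]
  rcases h2 with h2 | h2 <;> rw [h2]
  · rw [pow_one]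
  · have h3 : y ^ 5 = y⁻¹ := by
      rw [eq_inv_iff_mul_eq_one, ← pow_succ]
      have h4 := pow_orderOf_eq_one y
      rw [hy] at h4
      exact h4
    rw [h3]
    exact isConj_inv_six h hy

theorem exists_int_two {t : K} (ht : orderOf t = 2) (χ : IrrCharacter K) :
    ∃ k : ℤ, (χ : K → ℂ) t = k := by
  obtain ⟨n, z, -, h1, -⟩ := SmallSimple.InvolColumn.exists_int_of_char (isIrr_isCharacter χ.2) (t := t)
    (by rw [← ht, pow_orderOf_eq_one])
  exact ⟨z, h1⟩

end six

set_option maxHeartbeats 2000000 in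
/-- **The principal 2-block**, from the local structure. -/
theorem odd_local [Finite K] [IsSimpleGroup K] (h : Local K) (hc : Nat.card K = 175560) {y : K}
    (hy : orderOf y = 6) {M : Ideal AlgInt} (hM : IsPModular 2 M) (χ : IrrCharacter K)
    (hχ : χ ∈ principalBlock M K) : Odd (dg χ) := by
  classical
  have := finite_irr (G := K)
  let _ := Fintype.ofFinite (IrrCharacter K)
  have f2 : Fact (Nat.Prime 2) := ⟨Nat.prime_two⟩
  have ht := orderOf_cube hy
  have hidx : (centralizer ({y ^ 3} : Set K)).index = 1463 := by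
    have h1 := (centralizer ({y ^ 3} : Set K)).card_mul_index
    rw [card_cent_two h ht, hc] at h1
    omega
  obtain ⟨z, hz⟩ := exists_int_two ht χ
  have hzle : z ^ 2 ≤ 120 := by
    have h1 := SmallSimple.InvolColumn.sum_sq_le {χ} (y ^ 3) (fun _ => z) (by
      intro ψ hψ
      rw [Finset.mem_singleton] at hψ
      rw [hψ]
      exact hz)
    rw [Finset.sum_singleton, card_cent_two h ht] at h1
    exact_mod_cast h1
  have hz1 : z ≤ 10 := by nlinarith
  have hz2 : -10 ≤ z := by nlinarith
  have hdv : (dg χ : ℤ) ∣ 1463 * z := by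
    have h1 := SmallSimple.InvolColumn.dvd_index_mul χ.2 hz
    rw [hidx] at h1
    exact_mod_cast h1
  obtain ⟨w, hw⟩ := hdv
  have hpar := two_dvd_sub hM hχ hz (w := w) (by rw [hidx]; exact_mod_cast hw)
  rw [hidx] at hpar
  have hdef : ∀ d : ℕ, dg χ = d → d ≠ 1 → 175560 / d % 2 = 1 → False := by
    intro d hd h1 h2
    refine H894.DefZero.notMem_principalBlock hM χ (by change dg χ ≠ 1; rw [hd]; exact h1) ?_ hχ
    change ¬ 2 ∣ Nat.card K / dg χ
    rw [hc, hd]
    omega
  have hmem := mem_degrees h hc χ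
  simp only [Finset.mem_insert, Finset.mem_singleton] at hmem
  rcases hmem with hd | hd | hd | hd | hd | hd | hd | hd
  · rw [hd]; decide
  · exact (hdef _ hd (by norm_num) (by norm_num)).elim
  · -- degree 76
    exfalso
    rw [hd] at hw
    push_cast at hw hpar
    have hz4 : z = 4 ∨ z = -4 := by omega
    obtain ⟨f, hf⟩ : ∃ f : IrrCharacter K → ℤ, ∀ ψ : IrrCharacter K, (ψ : K → ℂ) y = f ψ :=
      ⟨fun ψ => (exists_int_six h hy ψ).choose, fun ψ => (exists_int_six h hy ψ).choose_spec⟩
    have hcd := card_cent_six h hy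
    have hc6 : Nat.card (centralizer ({y} : Set K)) ≤ 6 := Nat.le_of_dvd (by norm_num) hcd
    have h6c : 6 ∣ Nat.card (centralizer ({y} : Set K)) := by
      have h1 := mem_cent_dvd (x := y) (y := y) rfl
      rwa [hy] at h1
    have hce : Nat.card (centralizer ({y} : Set K)) = 6 := Nat.dvd_antisymm hcd h6c
    have hidy : (centralizer ({y} : Set K)).index = 29260 := by
      have h1 := (centralizer ({y} : Set K)).card_mul_index
      rw [hce, hc] at h1
      omega
    -- `χ y` is even
    have hev : (2 : ℤ) ∣ f χ := by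
      have h1 := two_dvd_sub hM hχ (hf χ) (w := 385 * f χ) (by rw [hidy, hd]; push_cast; ring)
      rw [hidy] at h1
      omega
    have h3 : (3 : ℤ) ∣ f χ - z :=
      J3Type.CharTools.int_congr (isIrr_isCharacter χ.2) y (by norm_num) (hf χ) hz
    -- squares
    have hsq : ∀ s : Finset (IrrCharacter K), ∑ ψ ∈ s, f ψ ^ 2 ≤ 6 := by
      intro s
      have h1 := SmallSimple.InvolColumn.sum_sq_le s y f (fun ψ _ => hf ψ)
      rw [hce] at h1
      exact_mod_cast h1
    let o : IrrCharacter K := ⟨1, isIrr_one⟩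
    have hfo : f o = 1 := by
      have h1 := hf o
      have h2 : (o : K → ℂ) y = 1 := rfl
      rw [h2] at h1
      exact_mod_cast h1.symm
    have hdo : dg o = 1 := dg_of_eq (by simp [o])
    have hne : χ ≠ o := by
      rintro h1
      rw [h1, hdo] at hd
      norm_num at hd
    have hfχ : f χ = 2 ∨ f χ = -2 := by
      have h1 := hsq {χ, o}
      rw [Finset.sum_pair hne, hfo] at h1
      have h2 : f χ ≤ 2 := by nlinarith
      have h4 : -2 ≤ f χ := by nlinarith
      omega
    -- orthogonality with the column of `1`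
    have hort : ∑ ψ : IrrCharacter K, (dg ψ : ℤ) * f ψ = 0 := by
      have h1 := (S0145.result y (1 : K)).2 (by
        intro h2
        rw [isConj_iff] at h2
        obtain ⟨c, hcc⟩ := h2
        have h3 : y = 1 := by
          have h4 := congrArg (fun x => c⁻¹ * x * c) hcc
          simpa [mul_assoc] using h4
        rw [h3, orderOf_one] at hy
        norm_num at hy)
      rw [SmallSimple.InvolColumn.finsum_eq_sum] at h1
      have h2 : ((∑ ψ : IrrCharacter K, (dg ψ : ℤ) * f ψ : ℤ) : ℂ) = 0 := by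
        rw [← h1]
        push_cast
        refine Finset.sum_congr rfl fun ψ _ => ?_
        rw [hf ψ, dg_eq ψ, Complex.conj_natCast]
        ring
      exact_mod_cast h2
    have hsplit : ∀ T : Finset (IrrCharacter K), χ ∉ T → o ∉ T → ∑ ψ ∈ T, f ψ ^ 2 ≤ 1 := by
      intro T h1 h2
      have h4 := hsq (insert χ (insert o T))
      rw [Finset.sum_insert (by rw [Finset.mem_insert]; rintro (h5 | h5); exacts [hne h5, h1 h5]),
        Finset.sum_insert h2, hfo] at h4
      rcases hfχ with h5 | h5 <;> rw [h5] at h4 <;> linarith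
    set T : Finset (IrrCharacter K) := (Finset.univ.erase χ).erase o with hT
    have hχT : χ ∉ T := by rw [hT]; simp
    have hoT : o ∉ T := by rw [hT]; simp
    have hsum : ∑ ψ ∈ T, (dg ψ : ℤ) * f ψ = -1 - 76 * f χ := by
      rw [← Finset.add_sum_erase _ _ (Finset.mem_univ χ),
        ← Finset.add_sum_erase _ _ (Finset.mem_erase.2 ⟨hne.symm, Finset.mem_univ o⟩), hdo, hd, hfo] at hort
      push_cast at hort
      rw [← hT] at hort
      linarith
    obtain ⟨ψ, hψ, hψ0⟩ : ∃ ψ ∈ T, f ψ ≠ 0 := by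
      by_contra hno
      push Not at hno
      rw [Finset.sum_eq_zero (fun ψ hψ => by rw [hno ψ hψ, mul_zero])] at hsum
      omega
    have hψ1 : f ψ = 1 ∨ f ψ = -1 := by
      have h1 := hsplit {ψ} (by rw [Finset.mem_singleton]; rintro rfl; exact hχT hψ)
        (by rw [Finset.mem_singleton]; rintro h2; exact hoT (h2 ▸ hψ))
      rw [Finset.sum_singleton] at h1
      have h2 : f ψ ≤ 1 := by nlinarith
      have h4 : -1 ≤ f ψ := by nlinarith
      omega
    have hrest : ∀ φ ∈ T.erase ψ, f φ = 0 := by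
      intro φ hφ
      rw [Finset.mem_erase] at hφ
      have h1 := hsplit {ψ, φ} (by
        rw [Finset.mem_insert, Finset.mem_singleton]
        rintro (h2 | h2)
        · exact hχT (h2 ▸ hψ)
        · exact hχT (h2 ▸ hφ.2)) (by
        rw [Finset.mem_insert, Finset.mem_singleton]
        rintro (h2 | h2)
        · exact hoT (h2 ▸ hψ)
        · exact hoT (h2 ▸ hφ.2))
      rw [Finset.sum_pair (Ne.symm hφ.1)] at h1
      have h2 : f ψ ^ 2 = 1 := by rcases hψ1 with h2 | h2 <;> rw [h2] <;> norm_num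
      rw [h2] at h1
      have h4 : f φ ^ 2 ≤ 0 := by linarith
      have h5 : f φ ^ 2 = 0 := le_antisymm h4 (sq_nonneg _)
      exact pow_eq_zero_iff (two_ne_zero) |>.1 h5
    rw [← Finset.add_sum_erase _ _ hψ, Finset.sum_eq_zero (fun φ hφ => by rw [hrest φ hφ, mul_zero]),
      add_zero] at hsum
    have hm2 := mem_degrees h hc ψ
    simp only [Finset.mem_insert, Finset.mem_singleton] at hm2
    rcases hψ1 with h1 | h1 <;> rcases hfχ with h2 | h2 <;> rw [h1, h2] at hsum <;> omega
  · rw [hd]; decide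
  · exact (hdef _ hd (by norm_num) (by norm_num)).elim
  · -- degree 132
    exfalso
    rw [hd] at hw
    push_cast at hw hpar
    omega
  · rw [hd]; decide
  · rw [hd]; decide

/-- **[R1]** the principal 2-block of `J₁` -/
theorem odd_of_isoJ1 {S : Type u} [Group S] [Finite S] {M : Ideal AlgInt} (h : Cfsg.Spor.IsoJ1 S)
    (hM : IsPModular 2 M) (χ : IrrCharacter S) (hχ : χ ∈ principalBlock M S) :
    Odd (charDegree (χ : S → ℂ)) := by
  obtain ⟨e⟩ := h
  have : IsSimpleGroup Spor.J1 := SporadicB.J1.Main.isJ1.1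
  have hfin : Finite Spor.J1 := Nat.finite_of_card_ne_zero (by rw [H413.JOneLocal.card_J1]; norm_num)
  have h1 := odd_local H413.JOneLocal.isLocal H413.JOneLocal.card_J1 ex6 hM (H684.EB.pull e.symm χ)
    ((H684.EB.pull_mem e.symm χ).2 hχ)
  rwa [dg, H684.EB.charDegree_pull] at h1

end Cfsg.Agent.H808.EB515
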